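import Mathlib
import Cfsg.Agent.Lib.Helper44.FW.Defs

/-!
# FW (S3211), package [SL2SQ]: square roots of an element of square `-1` in `SL₂(F)`
-/

set_option autoImplicit false

namespace Cfsg.Agent.Lib.Helper12.FW

open Matrix Cfsg.Agent.Lib.Helper44.FW

universe u

section
variable {F : Type u} [Field F]

theorem sl2_sq12 (A : Matrix.SpecialLinearGroup (Fin 2) F) :
    (A.1 * A.1) = (A.1 0 0 + A.1 1 1) • A.1 - 1 := by
  have hdet := A.2
  rw [Matrix.det_fin_two] at hdet
  ext i j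
  fin_cases i <;> fin_cases j
  · simp only [Matrix.mul_apply, Fin.sum_univ_two, Matrix.sub_apply, Matrix.smul_apply,
      Fin.zero_eta, Matrix.one_apply_eq, smul_eq_mul]
    linear_combination (-1 : F) * hdet
  · simp only [Matrix.mul_apply, Fin.sum_univ_two, Matrix.sub_apply, Matrix.smul_apply,
      Fin.zero_eta, Fin.mk_one, smul_eq_mul, Matrix.one_apply_ne (show (0 : Fin 2) ≠ 1 by decide)]
    ring
  · simp only [Matrix.mul_apply, Fin.sum_univ_two, Matrix.sub_apply, Matrix.smul_apply,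
      Fin.zero_eta, Fin.mk_one, smul_eq_mul, Matrix.one_apply_ne (show (1 : Fin 2) ≠ 0 by decide)]
    ring
  · simp only [Matrix.mul_apply, Fin.sum_univ_two, Matrix.sub_apply, Matrix.smul_apply,
      Fin.mk_one, Matrix.one_apply_eq, smul_eq_mul]
    linear_combination (-1 : F) * hdet

/-- an element with square `-1` has trace zero -/
theorem tr_zero_of_sq12 (A : Matrix.SpecialLinearGroup (Fin 2) F)
    (hA : A.1 * A.1 = -1) : A.1 0 0 + A.1 1 1 = 0 := by
  have h := sl2_sq12 A
  rw [hA] at h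
  have h00 := congrFun (congrFun h 0) 0
  have h11 := congrFun (congrFun h 1) 1
  simp only [Matrix.neg_apply, Matrix.one_apply_eq, Matrix.sub_apply, Matrix.smul_apply,
    smul_eq_mul] at h00 h11
  have hsq : (A.1 0 0 + A.1 1 1) * (A.1 0 0 + A.1 1 1) = 0 := by
    linear_combination (-1 : F) * h00 - h11
  exact mul_self_eq_zero.1 hsq

/-- square roots of an element of square `-1`: trace squared is 2 and `tr u • u = x + 1` -/
theorem sqrt_form12 (x u : Matrix.SpecialLinearGroup (Fin 2) F)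
    (hx : x.1 * x.1 = -1) (hu : u.1 * u.1 = x.1) :
    (u.1 0 0 + u.1 1 1) ^ 2 = 2 ∧ (u.1 0 0 + u.1 1 1) • u.1 = x.1 + 1 := by
  have h := sl2_sq12 u
  rw [hu] at h
  have h2' : (u.1 0 0 + u.1 1 1) • u.1 = x.1 + 1 := by rw [h]; abel
  refine ⟨?_, h2'⟩
  have htx := tr_zero_of_sq12 x hx
  have e00 := congrFun (congrFun h2' 0) 0
  have e11 := congrFun (congrFun h2' 1) 1
  simp only [Matrix.add_apply, Matrix.one_apply_eq, Matrix.smul_apply, smul_eq_mul] at e00 e11
  linear_combination e00 + e11 + htx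

theorem sqrt_eq_of_tr12 (h2 : (2 : F) ≠ 0) (x u v : Matrix.SpecialLinearGroup (Fin 2) F)
    (hx : x.1 * x.1 = -1) (hu : u.1 * u.1 = x.1) (hv : v.1 * v.1 = x.1)
    (ht : u.1 0 0 + u.1 1 1 = v.1 0 0 + v.1 1 1) : u = v := by
  obtain ⟨hu2, hu1⟩ := sqrt_form12 x u hx hu
  obtain ⟨hv2, hv1⟩ := sqrt_form12 x v hx hv
  have hne : u.1 0 0 + u.1 1 1 ≠ 0 := by
    intro h0
    rw [h0] at hu2
    exact h2 (by simpa using hu2.symm)
  apply Subtype.ext
  have : (u.1 0 0 + u.1 1 1) • u.1 = (u.1 0 0 + u.1 1 1) • v.1 := by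
    rw [hu1, ht, hv1]
  exact smul_right_injective _ hne this

theorem negOne_val12 : (negOne F).1 = -1 := by
  ext i j
  fin_cases i <;> fin_cases j <;> simp [negOne]

theorem mul_negOne_val12 (u : Matrix.SpecialLinearGroup (Fin 2) F) :
    (u * negOne F).1 = -u.1 := by
  show u.1 * (negOne F).1 = -u.1
  rw [negOne_val12, mul_neg, mul_one]

end

theorem pkgSL2SQ : PkgSL2SQ.{u} := by
  intro F _ h2 x u u' hx hu hu'
  have hx' : x.1 * x.1 = -1 := by
    have := congrArg Subtype.val hx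
    rw [pow_two] at this
    rw [← negOne_val12]
    exact this
  have hu1 : u.1 * u.1 = x.1 := by
    have := congrArg Subtype.val hu
    rw [pow_two] at this
    exact this
  have hu1' : u'.1 * u'.1 = x.1 := by
    have := congrArg Subtype.val hu'
    rw [pow_two] at this
    exact this
  obtain ⟨hu2, hu3⟩ := sqrt_form12 x u hx' hu1
  obtain ⟨hv2, hv3⟩ := sqrt_form12 x u' hx' hu1'
  have hsq : (u'.1 0 0 + u'.1 1 1) ^ 2 = (u.1 0 0 + u.1 1 1) ^ 2 := by rw [hu2, hv2]
  rcases sq_eq_sq_iff_eq_or_eq_neg.1 hsq with h | h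
  · left
    exact sqrt_eq_of_tr12 h2 x u' u hx' hu1' hu1 h
  · right
    have hnu : (u * negOne F).1 * (u * negOne F).1 = x.1 := by
      rw [mul_negOne_val12, neg_mul_neg, hu1]
    have htr : u'.1 0 0 + u'.1 1 1 = (u * negOne F).1 0 0 + (u * negOne F).1 1 1 := by
      rw [h, mul_negOne_val12]
      simp only [Matrix.neg_apply]
      ring
    exact sqrt_eq_of_tr12 h2 x u' (u * negOne F) hx' hu1' hnu htr

end Cfsg.Agent.Lib.Helper12.FW
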